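import Groth.Agent.Lib.NodeSplit16.Chain
import Groth.Agent.Lib.SubCurve16.Base
import Groth.Agent.Lib.GGDesc10.Main
import Groth.Agent.Lib.HodgeIndex.IdealLe
import Groth.Agent.Lib.RefK12.GenMap
import Groth.Agent.Lib.C1.Fibre
import Groth.Agent.Lib.Algz56.Sheaves
import Groth.Agent.Lib.Contract29.GGMap

/-!
# Globally generated line bundles on curves of genus at most one
-/

set_option autoImplicit false
set_option linter.all false
set_option backward.isDefEq.respectTransparency false
set_option maxHeartbeats 1000000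

universe u

open CategoryTheory CategoryTheory.Limits AlgebraicGeometry TopologicalSpace Opposite

noncomputable section

namespace GrothLib.H1Sub9

open GrothLib.QCoh (stalkLin)
open GrothLib.Euler (tF)

variable (k : Type u) [Field k] [IsAlgClosed k]

/-- A globally generated invertible module on a connected reduced curve has degree at least zero, and
degree zero only if it is trivial. -/
theorem deg_nonneg_and_trivial (Y : Scheme.{u}) [Y.Over (Spec (CommRingCat.of k))]
    [IsProper (Y ↘ Spec (CommRingCat.of k))] [AlgebraicGeometry.IsReduced Y] [ConnectedSpace Y]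
    (hd : topologicalKrullDim Y ≤ 1) {L : Y.Modules} (hL : PicF.IsInvertible L)
    (hgg : Curv2.IsGloballyGenerated L) :
    0 ≤ Curv2.deg k Y L 1 ∧
      (Curv2.deg k Y L 1 ≤ 0 → Nonempty (L ≅ Coh.structureModule Y)) := by
  classical
  haveI := Euler.isNoetherian_of_proper (X := Y) k
  haveI : Infinite k := IsAlgClosed.instInfinite
  let ρ : k →+* Γ(Y, ⊤) := Coh.toGlobal (Y ↘ Spec (CommRingCat.of k))
  have hfin : (genericPoints (Y : Type u)).Finite :=
    genericPoints.finite NoetherianSpace.finite_irreducibleComponents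
  obtain ⟨s, hs⟩ := RefK12.exists_section_gen_all ρ
    (CurveMult.stalkSpanned_of_isGloballyGenerated hgg) hfin.toFinset fun x _ => C1.exists_gen hL x
  let f : Coh.structureModule Y ⟶ L := FinCov.homOfSection s
  have hcO : Coh.IsCoh (Coh.structureModule Y) := Euler.isCoh_of_isInvertible Euler.isInvertible_structure
  have hcL : Coh.IsCoh L := Euler.isCoh_of_isInvertible hL
  haveI := hcO.1
  haveI := hcL.1
  have hsurj : Function.Surjective (Cohom.hhMap k f 1) := by
    refine SubCurve16.surjective_H1_of_generic k hd f hcO hcL fun η hη _ v => ?_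
    obtain ⟨a, ha⟩ := (hs η (hfin.mem_toFinset.2 hη)).2 v
    refine ⟨a • (Coh.structureModule Y).presheaf.germ ⊤ η trivial (FinCov.one Y ⊤), ?_⟩
    rw [map_smul, SubCurve16.stalkLin_homOfSection]
    exact ha
  haveI := Euler.finiteDimensional_HH k hcO 1
  haveI := Euler.finiteDimensional_HH k hcL 0
  have h1 : Module.finrank k (Coh.HH Y L 1) ≤ Module.finrank k (Coh.HH Y (Coh.structureModule Y) 1) :=
    LinearMap.finrank_le_finrank_of_surjective hsurj
  let z₀ : Coh.HH Y L 0 := (ProjCoh.H0top L).symm s
  have hz₀ : z₀ ≠ 0 := by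
    intro h0
    have hs0 : s = 0 := ((ProjCoh.H0top L).apply_symm_apply s).symm.trans
      ((congrArg _ h0).trans (map_zero _))
    obtain ⟨η, hη⟩ : (genericPoints (Y : Type u)).Nonempty := by
      by_contra h
      have := genericPoints.closure (α := (Y : Type u))
      rw [Set.not_nonempty_iff_eq_empty.1 h, closure_empty] at this
      exact Set.empty_ne_univ this
    have hgen := hs η (hfin.mem_toFinset.2 hη)
    rw [hs0, map_zero] at hgen
    exact one_ne_zero (hgen.1 (a₁ := (1 : Y.presheaf.stalk η)) (a₂ := 0) (by simp))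
  haveI : Nontrivial (Coh.HH Y L 0) := ⟨z₀, 0, hz₀⟩
  have h0pos : 0 < Module.finrank k (Coh.HH Y L 0) := Module.finrank_pos
  have hO := ConnH0.finrank_H0_eq_one k (X := Y)
  have e1 := Euler.euler_eq_sub k hd L
  have e2 := Euler.euler_eq_sub k hd (Coh.structureModule Y)
  refine ⟨by rw [Curv2.deg, e1, e2, hO]; push_cast; omega, fun hle => ?_⟩
  have hone : Module.finrank k (Coh.HH Y L 0) = 1 := by
    rw [Curv2.deg, e1, e2, hO] at hle
    push_cast at hle
    omega
  have hspan : ∀ x : Y, Submodule.span (Y.presheaf.stalk x) {L.presheaf.germ ⊤ x trivial s} = ⊤ := by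
    intro x
    refine eq_top_iff.2 ((CurveMult.stalkSpanned_of_isGloballyGenerated hgg x).symm.le.trans
      (Submodule.span_le.2 ?_))
    rintro _ ⟨t, rfl⟩
    obtain ⟨a, ha⟩ := (finrank_eq_one_iff_of_nonzero' z₀ hz₀).1 hone ((ProjCoh.H0top L).symm t)
    have h2 := congrArg (ProjCoh.H0top L) ha
    rw [ProjCoh.H0top_smul, AddEquiv.apply_symm_apply, AddEquiv.apply_symm_apply] at h2
    show L.presheaf.germ ⊤ x trivial t ∈ _
    rw [← h2]
    refine Submodule.mem_span_singleton.2 ⟨Y.presheaf.germ ⊤ x trivial (ρ a), ?_⟩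
    exact (WeakAss.germ_smul (F := L) (V := ⊤) (x := x) trivial (ρ a) s).symm
  haveI : Epi f := FormalExist7.epi_of_stalk _ fun x v => by
    obtain ⟨a, ha⟩ := Submodule.mem_span_singleton.1 ((hspan x).ge (Submodule.mem_top (x := v)))
    refine ⟨a • (Coh.structureModule Y).presheaf.germ ⊤ x trivial (FinCov.one Y ⊤), ?_⟩
    rw [map_smul, SubCurve16.stalkLin_homOfSection]
    exact ha
  haveI := Algz56.isIso_of_epi_invertible Euler.isInvertible_structure hL f
  exact ⟨(asIso f).symm⟩

/-- A map from a connected reduced curve pulling an ample module back to a trivial one is constant. -/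
theorem const_of_pullback_trivial {Y P : Scheme.{u}} [Y.Over (Spec (CommRingCat.of k))]
    [IsProper (Y ↘ Spec (CommRingCat.of k))] [AlgebraicGeometry.IsReduced Y] [ConnectedSpace Y]
    (hd : topologicalKrullDim Y = 1) (q : Y ⟶ P) [UniversallyClosed q] [IsProper q]
    {H : P.Modules} (hH : CohB1.IsAmple H)
    (htriv : Nonempty ((Scheme.Modules.pullback q).obj H ≅ Coh.structureModule Y)) :
    ∀ x y : Y, q x = q y := by
  haveI := Euler.isNoetherian_of_proper (X := Y) k
  obtain ⟨t⟩ := htriv
  have hfin : (genericPoints (Y : Type u)).Finite :=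
    genericPoints.finite NoetherianSpace.finite_irreducibleComponents
  have hcomp : ∀ η ∈ genericPoints (Y : Type u), ∀ y ∈ closure ({η} : Set Y), q y = q η := by
    intro η hη
    let J : Y.IdealSheafData := SubCurve16.JJ ({η} : Set Y)
    haveI : IsIntegral J.subscheme := Euler.isIntegral_vanishingIdeal _ isIrreducible_singleton.closure
    letI : J.subscheme.Over (Spec (CommRingCat.of k)) := ⟨J.subschemeι ≫ Y ↘ Spec (CommRingCat.of k)⟩
    haveI : IsProper (J.subscheme ↘ Spec (CommRingCat.of k)) :=
      inferInstanceAs (IsProper (J.subschemeι ≫ Y ↘ Spec (CommRingCat.of k)))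
    haveI := Euler.isNoetherian_of_proper (X := J.subscheme) k
    have hdJ : topologicalKrullDim J.subscheme = 1 :=
      SubCurve16.dim_JJ hd (Set.singleton_subset_iff.2 hη) (Set.singleton_nonempty η)
    let g : J.subscheme ⟶ P := J.subschemeι ≫ q
    by_contra hne
    have hc : ¬ ∃ x, Set.range g = {x} := by
      rintro ⟨x, hx⟩
      refine hne fun y hy => ?_
      have hmem : ∀ z ∈ closure ({η} : Set Y), q z = x := by
        intro z hz
        obtain ⟨w, rfl⟩ := (J.range_subschemeι.trans (SubCurve16.support_JJ _)).ge hz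
        exact Set.mem_singleton_iff.1 (hx.le ⟨w, rfl⟩)
      rw [hmem y hy, hmem η (subset_closure rfl)]
    haveI : LocallyQuasiFinite g := LocallyQuasiFinite.of_finite_preimage_singleton _ fun z =>
      Contract29.finite_preimage_of_not_const hdJ.le g hc z
    haveI : IsFinite g := IsFinite.of_isProper_of_locallyQuasiFinite _
    have hA := Ample.isAmple_pullback_of_isAffineHom g hH
    have hpos := (Euler.isAmple_iff_deg_pos k hdJ hA.1).1 hA
    obtain ⟨u⟩ := Ample.nonempty_pullback_structureModule J.subschemeι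
    have e : (Scheme.Modules.pullback g).obj H ≅ Coh.structureModule J.subscheme :=
      ((Scheme.Modules.pullbackComp J.subschemeι q).app H).symm ≪≫
        (Scheme.Modules.pullback J.subschemeι).mapIso t ≪≫ u
    rw [Euler.deg_of_iso _ e 1, Euler.deg_structure] at hpos
    exact lt_irrefl 0 hpos
  let G := genericPoints (Y : Type u)
  have hcl : ∀ η ∈ G, IsClosed ({q η} : Set P) := by
    intro η hη
    have h1 : q '' closure ({η} : Set Y) = {q η} := by
      ext z
      constructor
      · rintro ⟨y, hy, rfl⟩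
        exact hcomp η hη y hy
      · rintro rfl
        exact ⟨η, subset_closure rfl, rfl⟩
    rw [← h1]
    exact q.isClosedMap _ isClosed_closure
  have hy : ∀ y : Y, ∃ η ∈ G, q y = q η := by
    intro y
    have : y ∈ closure G := by rw [genericPoints.closure]; trivial
    rw [← Set.biUnion_of_singleton G, hfin.closure_biUnion] at this
    obtain ⟨η, hη, hyη⟩ := Set.mem_iUnion₂.1 this
    exact ⟨η, hη, hcomp η hη y hyη⟩
  intro x y
  by_contra hxy
  let A : Set Y := q ⁻¹' {q x}
  have hA : IsClopen A := by
    obtain ⟨η, hη, hxη⟩ := hy x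
    refine ⟨(hxη ▸ hcl η hη).preimage q.continuous, ?_⟩
    rw [← isClosed_compl_iff]
    have : Aᶜ = q ⁻¹' (⋃ η ∈ {η ∈ G | q η ≠ q x}, {q η}) := by
      ext z
      simp only [Set.mem_compl_iff, A, Set.mem_preimage, Set.mem_singleton_iff, Set.mem_iUnion, Set.mem_setOf_eq,
        exists_prop]
      constructor
      · intro hz
        obtain ⟨η, hη, hzη⟩ := hy z
        exact ⟨η, ⟨hη, hzη ▸ hz⟩, hzη⟩
      · rintro ⟨η, ⟨-, hne⟩, hzη⟩
        exact hzη ▸ hne
    rw [this]
    exact ((hfin.subset fun η h => h.1).isClosed_biUnion fun η h => hcl η h.1).preimage q.continuous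
  rcases isClopen_iff.1 hA with h | h
  · exact Set.notMem_empty x (h ▸ (rfl : q x = q x))
  · exact hxy ((h ▸ Set.mem_univ y : y ∈ A)).symm

variable (X : Scheme.{u}) [X.Over (Spec (CommRingCat.of k))] [IsProper (X ↘ Spec (CommRingCat.of k))]
  [AlgebraicGeometry.IsReduced X] [ConnectedSpace X]

/-- On a connected curve of genus at most one a globally generated invertible module has no first
cohomology if it is nontrivial on every connected subcurve of positive genus. -/
theorem subsingleton_H1 (hdim : topologicalKrullDim X = 1) (hg : Curv2.genus k X ≤ 1) {L : X.Modules}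
    (hL : PicF.IsInvertible L) (hgg : Curv2.IsGloballyGenerated L)
    (htriv : ∀ J : X.IdealSheafData, AlgebraicGeometry.IsReduced J.subscheme → ConnectedSpace J.subscheme →
      topologicalKrullDim J.subscheme = 1 →
      @Curv2.genus k _ J.subscheme ⟨J.subschemeι ≫ (X ↘ (Spec (CommRingCat.of k)))⟩ ≠ 0 →
      IsEmpty ((Scheme.Modules.pullback J.subschemeι).obj L ≅ Coh.structureModule J.subscheme)) :
    Subsingleton (Coh.HH X L 1) := by
  haveI := Euler.isNoetherian_of_proper (X := X) k
  rw [← not_nontrivial_iff_subsingleton]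
  intro hnt
  haveI := HodgeIndex.isIso_idealModι_top (X := X)
  have hnt' : Nontrivial (Coh.HH X ((tF L).obj (ClSub.idealMod (⊤ : X.IdealSheafData))) 1) :=
    (Euler.hhEquiv (A := k) ((tF L).mapIso (asIso (ClSub.idealModι (⊤ : X.IdealSheafData))) ≪≫
      OX.tensorUnitLeftIso L) 1).toEquiv.nontrivial
  obtain ⟨J, hJr, hJc, hJd, hle⟩ := SubCurve16.exists_subcurve ⊤ hL k hdim (fun η _ => by simp) subset_rfl
    (SubCurve16.nontrivial_GG_univ ⊤ hL k hnt')
  haveI := hJr
  haveI := hJc
  letI : J.subscheme.Over (Spec (CommRingCat.of k)) := ⟨J.subschemeι ≫ X ↘ Spec (CommRingCat.of k)⟩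
  haveI : IsProper (J.subscheme ↘ Spec (CommRingCat.of k)) :=
    inferInstanceAs (IsProper (J.subschemeι ≫ X ↘ Spec (CommRingCat.of k)))
  haveI := Euler.isNoetherian_of_proper (X := J.subscheme) k
  have hzero : Module.finrank k (Coh.HH X (ClSub.quotMod (⊤ ⊔ J)) 0) = 0 := by
    have hs : CohB1.support (ClSub.quotMod (⊤ ⊔ J)) = ∅ :=
      Set.eq_empty_of_subset_empty ((Snapper.support_quotMod _).trans (by simp))
    haveI : Subsingleton Γ(ClSub.quotMod (⊤ ⊔ J), ⊤) :=
      subsingleton_of_forall_eq 0 fun s => QCoh.section_eq_zero_of_germ _ s fun x _ =>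
        @Subsingleton.elim _ (QCoh.stalk_subsingleton_of_notMem (by rw [hs]; exact Set.notMem_empty x)) _ _
    haveI : Subsingleton (Coh.HH X (ClSub.quotMod (⊤ ⊔ J)) 0) := (ProjCoh.H0top _).toEquiv.subsingleton
    exact Module.finrank_zero_of_subsingleton
  have hcO : Coh.IsCoh (Coh.structureModule J.subscheme) := Euler.isCoh_of_isInvertible Euler.isInvertible_structure
  haveI := hcO.1
  have hJg : Curv2.genus k J.subscheme ≤ 1 := by
    haveI := Euler.epi_toSubscheme J
    haveI := Euler.finiteDimensional_HH k (Euler.isCoh_of_isInvertible (Euler.isInvertible_structure (X := X))) 1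
    have h1 := LinearMap.finrank_le_finrank_of_surjective (SubCurve16.surjective_H1_of_epi k hdim.le (ClSub.toSubscheme J)
      (Euler.isCoh_of_isInvertible Euler.isInvertible_structure) (Snapper.isCoh_quotMod k J))
    rw [SubCurve16.finrank_quotMod_eq k J 1] at h1
    exact h1.trans hg
  rw [hzero, Euler.euler_eq_sub k hJd.le (Coh.structureModule J.subscheme), ConnH0.finrank_H0_eq_one k] at hle
  have hnn := deg_nonneg_and_trivial k J.subscheme hJd.le (Kleiman.isInv_pullback J.subschemeι hL)
    (GGDesc10.isGloballyGenerated_pullback J.subschemeι hgg)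
  have hgJ : (Curv2.genus k J.subscheme : ℤ) =
    Module.finrank k (Coh.HH J.subscheme (Coh.structureModule J.subscheme) 1) := rfl
  have hgne : Curv2.genus k J.subscheme ≠ 0 := by
    intro h
    rw [h] at hgJ
    push_cast at hle
    omega
  obtain ⟨e⟩ := hnn.2 (by push_cast at hle; omega)
  exact (htriv J hJr hJc hJd hgne).false e

end GrothLib.H1Sub9
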